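import Cfsg.Agent.Lib.BenderOne.NoBadChain
import Cfsg.Agent.Lib.BenderOne.NoBad
import Cfsg.Agent.Lib.Balance.OddInvariant

/-!
# Bender's theorem, part I, node A: local lemmas

See `notes/bender_nodeA_helper67.md`, tools L, C, S.
* `isConj_of_two_fixed`: with two fixed points all involutions of a subgroup are conjugate in it;
* `normalizer_invGen_le`: (L) the normaliser of the inverted part fixes the point of the four group;
* `invariant_le_stabilizer`: (C) invariant `p'`-subgroups fix that point;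
* `le_coreIn_of_normal`: (S) `p'`-subgroups invariant under a large normal subgroup of a Sylow
  subgroup lie in the core.
-/

set_option autoImplicit false
set_option linter.style.haveILetI false

namespace Cfsg.Agent.Lib.BenderOne67

open Subgroup MulAction
open Cfsg.Agent.Lib.Involutions.Basic Cfsg.Agent.Lib.BenderOne20
open Cfsg.Agent.Lib.BenderOne.NoBadProof
open scoped commutatorElement

universe u v

variable {G : Type u} {Ω : Type v} [Group G] [MulAction G Ω] [Finite G]

omit [MulAction G Ω] [Finite G] in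
/-- What normalises `V` normalises `⁅V, V⁆`. -/
theorem normalizer_le_commutator (V : Subgroup G) :
    Subgroup.normalizer (V : Set G) ≤ Subgroup.normalizer ((⁅V, V⁆ : Subgroup G) : Set G) := by
  intro g hg
  rw [Subgroup.mem_normalizer_iff_map_conj_eq] at hg ⊢
  exact (Subgroup.map_commutator V V _).trans (by rw [hg])

/-- With two fixed points all involutions of a subgroup are conjugate in it. -/
theorem isConj_of_two_fixed (hG : OneFix G Ω) {N : Subgroup G} {x y : Ω} (hxy : x ≠ y) {s t : G}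
    (hs : s ∈ invAt G x) (hsN : s ∈ N) (ht : t ∈ invAt G y) (htN : t ∈ N) {e f : G}
    (he : orderOf e = 2) (heN : e ∈ N) (hf : orderOf f = 2) (hfN : f ∈ N) :
    ∃ g ∈ N, g * e * g⁻¹ = f := by
  have key : ∀ {e f : G} {z w : Ω}, e ∈ invAt G z → e ∈ N → f ∈ invAt G w → f ∈ N → z ≠ w →
      ∃ g ∈ N, g * e * g⁻¹ = f := by
    intro e f z w he heN hf hfN hne
    obtain ⟨d, hd, hde⟩ := exists_conj_of_odd (invol_mul_self he.1) (invol_mul_self hf.1)
      (hG.odd_mul he hf hne)
    refine ⟨d, (Subgroup.closure_le N).2 ?_ hd, hde⟩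
    rintro g (rfl | rfl)
    exacts [heN, hfN]
  obtain ⟨z, hz⟩ := hG.exists_fix he
  obtain ⟨w, hw⟩ := hG.exists_fix hf
  by_cases hne : z = w
  · subst hne
    obtain ⟨r, q, hr, hrN, hq⟩ : ∃ (r : G) (q : Ω), r ∈ invAt G q ∧ r ∈ N ∧ q ≠ z := by
      by_cases hxz : x = z
      · exact ⟨t, y, ht, htN, fun h => hxy (hxz.trans h.symm)⟩
      · exact ⟨s, x, hs, hsN, hxz⟩
    obtain ⟨g, hg, hge⟩ := key ⟨he, hz⟩ heN hr hrN hq.symm
    obtain ⟨k, hk, hkr⟩ := key hr hrN ⟨hf, hw⟩ hfN hq
    refine ⟨k * g, mul_mem hk hg, ?_⟩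
    calc k * g * e * (k * g)⁻¹ = k * (g * e * g⁻¹) * k⁻¹ := by group
      _ = f := by rw [hge, hkr]
  · exact key ⟨he, hz⟩ heN ⟨hf, hw⟩ hfN hne

omit [MulAction G Ω] [Finite G] in
/-- An element centralising `u` and normalising `P` normalises the inverted part. -/
theorem invGen_normalizer_of_commute {P : Subgroup G} {u e : G}
    (he : e ∈ Subgroup.normalizer (P : Set G)) (hue : u * e = e * u) :
    e ∈ Subgroup.normalizer (invGen P u : Set G) := by
  have hgen : ∀ g ∈ Subgroup.normalizer (P : Set G), u * g = g * u →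
      ∀ x ∈ invGen P u, g * x * g⁻¹ ∈ invGen P u := by
    intro g hg hug x hx
    induction hx using Subgroup.closure_induction with
    | mem y hy =>
      refine mem_invGen ((Subgroup.mem_normalizer_iff.1 hg y).1 hy.1) ?_
      calc u * (g * y * g⁻¹) * u⁻¹ = u * g * y * (u * g)⁻¹ := by group
        _ = g * (u * y * u⁻¹) * g⁻¹ := by rw [hug]; group
        _ = (g * y * g⁻¹)⁻¹ := by rw [hy.2]; group
    | one => simp
    | mul y z _ _ hy hz =>
      have := mul_mem hy hz
      rwa [show g * y * g⁻¹ * (g * z * g⁻¹) = g * (y * z) * g⁻¹ by group] at this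
    | inv y _ hy =>
      have := inv_mem hy
      rwa [show (g * y * g⁻¹)⁻¹ = g * y⁻¹ * g⁻¹ by group] at this
  refine Subgroup.mem_normalizer_iff.2 fun x => ⟨hgen e he hue x, fun hx => ?_⟩
  have := hgen e⁻¹ (inv_mem he) ((show Commute u e from hue).inv_right).eq _ hx
  simpa [mul_assoc] using this

variable {p : ℕ} [hp : Fact p.Prime]

omit [MulAction G Ω] [Finite G] in
/-- The involution inverts its inverted part modulo the commutator subgroup. -/
theorem invGen_inverts {P : Subgroup G} {u : G} {v : G} (hv : v ∈ invGen P u) :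
    u * v * u⁻¹ * v ∈ ⁅invGen P u, invGen P u⁆ := by
  set V := invGen P u
  have hn : V ≤ Subgroup.normalizer ((⁅V, V⁆ : Subgroup G) : Set G) :=
    le_normalizer.trans (normalizer_le_commutator V)
  induction hv using Subgroup.closure_induction with
  | mem y hy => rw [hy.2, inv_mul_cancel]; exact one_mem _
  | one => simp
  | mul y z hy hz ihy ihz =>
    have hz' : u * z * u⁻¹ ∈ V := by
      have := mul_mem (Subgroup.commutator_le_self V ihz) (inv_mem hz)
      rwa [mul_inv_cancel_right] at this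
    have h1 : ⁅u * z * u⁻¹, y⁆ ∈ (⁅V, V⁆ : Subgroup G) :=
      Subgroup.commutator_mem_commutator hz' hy
    have h2 := (Subgroup.mem_normalizer_iff.1 (hn hy) _).1 ihz
    have hy' : u * y * u⁻¹ ∈ V := by
      have := mul_mem (Subgroup.commutator_le_self V ihy) (inv_mem hy)
      rwa [mul_inv_cancel_right] at this
    have h3 := (Subgroup.mem_normalizer_iff.1 (hn hy') _).1 (mul_mem h1 h2)
    have h4 := mul_mem h3 ihy
    convert h4 using 1
    rw [commutatorElement_def]
    group
  | inv y hy ih =>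
    have hy' : u * y * u⁻¹ ∈ V := by
      have := mul_mem (Subgroup.commutator_le_self V ih) (inv_mem hy)
      rwa [mul_inv_cancel_right] at this
    have h2 : ⁅(u * y * u⁻¹)⁻¹, y⁻¹⁆ ∈ (⁅V, V⁆ : Subgroup G) :=
      Subgroup.commutator_mem_commutator (inv_mem hy') (inv_mem hy)
    have h3 := mul_mem h2 (inv_mem ih)
    convert h3 using 1
    rw [commutatorElement_def]
    group

/-- (L) the normaliser of the inverted part fixes the fixed point of the four group. -/
theorem normalizer_invGen_le (hG : OneFix G Ω) {c : Ω} {u e : G} (hu : u ∈ invAt G c)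
    (he : e ∈ invAt G c) (hne : u ≠ e) (hue : u * e = e * u) {P : Subgroup G}
    (hPp : IsPGroup p P) (hp2 : p ≠ 2) (heP : e ∈ Subgroup.normalizer (P : Set G))
    (hbad : ∃ j ∈ P, j ≠ 1 ∧ u * j * u⁻¹ = j⁻¹) :
    Subgroup.normalizer (invGen P u : Set G) ≤ stabilizer G c := by
  intro g hg
  rw [mem_stabilizer_iff]
  by_contra hgc
  set V := invGen P u
  set N := Subgroup.normalizer (V : Set G) with hN
  set D := (⁅V, V⁆ : Subgroup G)
  have huN : u ∈ N := invGen_normalizer hu.1
  have heN : e ∈ N := invGen_normalizer_of_commute heP hue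
  have hueinv : orderOf (u * e) = 2 := by
    rw [invol_iff]
    refine ⟨?_, fun h => hne ?_⟩
    · calc u * e * (u * e) = u * (e * u) * e := by group
        _ = u * (u * e) * e := by rw [hue]
        _ = u * u * (e * e) := by group
        _ = 1 := by rw [invol_mul_self hu.1, invol_mul_self he.1, one_mul]
    · rw [eq_inv_of_mul_eq_one_left h, invol_inv he.1]
  -- every involution of `N` inverts `V` modulo `D`
  have key : ∀ f ∈ N, orderOf f = 2 → ∀ v ∈ V, f * v * f⁻¹ * v ∈ D := by
    intro f hf hf2 v hv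
    obtain ⟨h, hh, rfl⟩ := isConj_of_two_fixed hG (Ne.symm hgc) hu huN
      (OneFix.conj_mem_invAt (g := g) hu) (mul_mem (mul_mem hg huN) (inv_mem hg)) hu.1 huN hf2 hf
    have hv' : h⁻¹ * v * h ∈ V := (Subgroup.mem_normalizer_iff''.1 hh v).1 hv
    have h1 := (Subgroup.mem_normalizer_iff.1
      (normalizer_le_commutator V hh : h ∈ Subgroup.normalizer (D : Set G)) _).1
      (invGen_inverts hv')
    convert h1 using 1
    group
  -- hence the product of two of them centralises `V` modulo `D`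
  have hsq : ∀ v ∈ V, v * v ∈ D := by
    intro v hv
    have h1 := key u huN hu.1
    have h2 := key e heN he.1 v hv
    have h3 := key (u * e) (mul_mem huN heN) hueinv v hv
    have hv' : e * v * e⁻¹ ∈ V := (Subgroup.mem_normalizer_iff.1 heN v).1 hv
    have h4 := h1 _ hv'
    -- `u e v e⁻¹ u⁻¹ v` and `u e v e⁻¹ u⁻¹ e v e⁻¹`
    have h5 := mul_mem (inv_mem h3) h4
    have h6 : v⁻¹ * (e * v * e⁻¹) ∈ D := by
      convert h5 using 1
      group
    have hn : V ≤ Subgroup.normalizer (D : Set G) :=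
      le_normalizer.trans (normalizer_le_commutator V)
    have h7 := mul_mem (inv_mem ((Subgroup.mem_normalizer_iff.1 (hn hv) _).1 h6)) h2
    convert h7 using 1
    group
  obtain ⟨j, hj, hj1, hinv⟩ := hbad
  have hVp : IsPGroup p V := hPp.to_le (invGen_le P u)
  have hVne : V ≠ ⊥ := fun h => hj1 (by
    have := mem_invGen hj hinv
    rwa [show invGen P u = ⊥ from h, Subgroup.mem_bot] at this)
  haveI : Group.IsNilpotent V := hVp.isNilpotent
  have hlt : D < V := by
    refine lt_of_le_of_ne (Subgroup.commutator_le_self V) fun h => ?_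
    have hcomm : (commutator ↥V).map V.subtype = V := by
      rw [_root_.commutator_def, Subgroup.map_commutator, ← MonoidHom.range_eq_map,
        Subgroup.range_subtype]
      exact h
    have htop : commutator ↥V = ⊤ := by
      apply Subgroup.map_injective V.subtype_injective
      rw [hcomm, ← MonoidHom.range_eq_map, Subgroup.range_subtype]
    haveI := (Subgroup.nontrivial_iff_ne_bot V).2 hVne
    exact absurd htop (Group.IsSolvable.commutator_lt_top_of_nontrivial ↥V).ne
  obtain ⟨v, hv, hvD⟩ := SetLike.exists_of_lt hlt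
  refine hvD ?_
  obtain ⟨k, hk⟩ : Odd (orderOf v) := by
    obtain ⟨n, hn⟩ := IsPGroup.iff_orderOf.1 hVp ⟨v, hv⟩
    rw [Subgroup.orderOf_mk] at hn
    rw [hn]
    exact (hp.out.odd_of_ne_two hp2).pow
  have h8 := pow_mem (hsq v hv) (k + 1)
  rwa [← pow_two, ← pow_mul, show 2 * (k + 1) = orderOf v + 1 by omega, pow_succ,
    pow_orderOf_eq_one, one_mul] at h8

/-- (C) invariant `p'`-subgroups of odd order fix the fixed point of the four group. -/
theorem invariant_le_stabilizer (hG : OneFix G Ω) {c : Ω} {u e : G} (hu : u ∈ invAt G c)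
    (he : e ∈ invAt G c) (hne : u ≠ e) (hue : u * e = e * u) {P : Subgroup G}
    (hPp : IsPGroup p P) (hp2 : p ≠ 2) (hPc : P ≤ stabilizer G c)
    (huP : u ∈ Subgroup.normalizer (P : Set G)) (heP : e ∈ Subgroup.normalizer (P : Set G))
    (hbad : ∃ j ∈ P, j ≠ 1 ∧ u * j * u⁻¹ = j⁻¹) {W : Subgroup G} (hW : Odd (Nat.card W))
    (hcop : ¬ p ∣ Nat.card W) (huW : u ∈ Subgroup.normalizer (W : Set G))
    (hPW : P ≤ Subgroup.normalizer (W : Set G)) : W ≤ stabilizer G c := by
  by_contra hmove
  obtain ⟨w, -, hw, hwc⟩ := exists_centralizer_moves hG hu hPp hPc huP hW hcop huW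
    ((invGen_le P u).trans hPW) hmove hp2
  exact hwc (normalizer_invGen_le hG hu he hne hue hPp hp2 heP hbad
    (Subgroup.centralizer_le_normalizer _ hw))

omit [MulAction G Ω] in
/-- (S) `p'`-subgroups invariant under a normal subgroup of a Sylow subgroup with small centraliser
lie in the core. -/
theorem le_coreIn_of_normal {D P P₀ : Subgroup G} (hD : Odd (Nat.card D)) (hp2 : p ≠ 2)
    (h : SylowIn p P D) (hP₀ : P₀ ≤ P) (hn : P ≤ Subgroup.normalizer (P₀ : Set G))
    (hc : ∀ x ∈ P, x ∈ Subgroup.centralizer (P₀ : Set G) → x ∈ P₀) {Q : Subgroup G}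
    (hQD : Q ≤ D) (hQ : ¬ p ∣ Nat.card Q) (hPQ : P₀ ≤ Subgroup.normalizer (Q : Set G)) :
    Q ≤ core p D := by
  haveI := BenderOne.LocalTools.isSolvable_odd hD
  -- the `p`-elements of `C_D(P₀)` lie in `P₀`
  have hΩ : ∀ x ∈ D, x ∈ Subgroup.centralizer (P₀ : Set G) → orderOf x = p → x ∈ P₀ := by
    intro x hxD hxC hxp
    set C := D ⊓ Subgroup.centralizer (P₀ : Set G)
    set N := D ⊓ Subgroup.normalizer (P₀ : Set G)
    have hPN : P ≤ N := le_inf h.1 hn
    have hxN : x ∈ N := ⟨hxD, Subgroup.centralizer_le_normalizer _ hxC⟩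
    have hNS : SylowIn p P N := by
      obtain ⟨R, hR, hPR⟩ := SylowIn.exists_ge h.isPGroup hPN
      rwa [h.eq_of_le hPR (hR.1.trans inf_le_left) hR.isPGroup] at hR
    obtain ⟨R, hR, hxR⟩ := SylowIn.exists_ge (p := p) (U := Subgroup.zpowers x)
      (IsPGroup.of_card (n := 1) (by rw [Nat.card_zpowers, hxp, pow_one]))
      (Subgroup.zpowers_le.2 hxN)
    obtain ⟨d, hd, hdR⟩ := hR.conj_eq hNS
    have h1 : d * x * d⁻¹ ∈ P := hdR ▸ ⟨x, hxR (Subgroup.mem_zpowers x), rfl⟩
    have h2 : d * x * d⁻¹ ∈ Subgroup.centralizer (P₀ : Set G) := by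
      rw [Subgroup.mem_centralizer_iff]
      intro y hy
      have hy' : d⁻¹ * y * d ∈ P₀ := (Subgroup.mem_normalizer_iff''.1 hd.2 y).1 hy
      have h3 := Subgroup.mem_centralizer_iff.1 hxC _ hy'
      calc y * (d * x * d⁻¹) = d * ((d⁻¹ * y * d) * x) * d⁻¹ := by group
        _ = d * (x * (d⁻¹ * y * d)) * d⁻¹ := by rw [h3]
        _ = d * x * d⁻¹ * y := by group
    have h4 := (Subgroup.mem_normalizer_iff''.1 hd.2 _).1 (hc _ h1 h2)
    simpa [mul_assoc] using h4
  have key := Balance.invariant_le_pPrimeCore (G := ↥D) hp2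
    (PSolvable.isPConstrained_of_isPSolvable PSolvable.isPSolvable_of_isSolvable)
    (A := P₀.subgroupOf D)
    ((h.isPGroup.to_le hP₀).comap_of_injective D.subtype D.subtype_injective) ?_
    (Q := Q.subgroupOf D) ?_ ?_
  · intro q hq
    exact ⟨⟨q, hQD hq⟩, key (mem_subgroupOf.2 hq), rfl⟩
  · intro x hx hxp
    refine mem_subgroupOf.2 (hΩ _ x.2 (Subgroup.mem_centralizer_iff.2 fun y hy => ?_)
      (by rw [Subgroup.orderOf_coe, hxp]))
    exact congrArg Subtype.val
      (Subgroup.mem_centralizer_iff.1 hx ⟨y, h.1 (hP₀ hy)⟩ (mem_subgroupOf.2 hy))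
  · rwa [Nat.card_congr (subgroupOfEquivOfLe hQD).toEquiv]
  · intro s hs
    have hs' : (s : G) ∈ normalizer (Q : Set G) := hPQ (mem_subgroupOf.1 hs)
    rw [mem_normalizer_iff]
    intro y
    simp only [mem_subgroupOf, coe_mul, InvMemClass.coe_inv]
    exact mem_normalizer_iff.1 hs' y

end Cfsg.Agent.Lib.BenderOne67
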